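import Groth.Prelude.Def_FrobAlg

set_option autoImplicit false
universe u v

/-!
# The relative Frobenius on pure tensors
-/

open TensorProduct

namespace K875.Frob

variable (p : ℕ) [Fact p.Prime] (R : Type u) [CommRing R] [CharP R p] (A : Type v) [CommRing A]
  [Algebra R A] [CharP A p]

theorem relFrob_tmul (a : A) (s : FrobAlg.Twist p R) :
    FrobAlg.relFrob p R A (a ⊗ₜ s) = a ^ p * algebraMap R A ((FrobAlg.toTwist p R).symm s) := by
  simp only [FrobAlg.relFrob, RingHom.comp_apply]
  change (FrobAlg.toTarget p R A).symm (Algebra.TensorProduct.lift (FrobAlg.frobHom p R A)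
    (FrobAlg.inclHom p R A) (fun _ _ => Commute.all _ _) (a ⊗ₜ s)) = _
  rw [Algebra.TensorProduct.lift_tmul, map_mul]
  rfl

end K875.Frob
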