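import Groth.Prelude.Def_Versch
import Groth.Prelude.Def_SGA3b
import Groth.Agent.Sga3A.PowConv
import Mathlib.RingTheory.Bialgebra.Convolution
import Mathlib.Algebra.CharP.Lemmas

set_option autoImplicit false
universe u v

/-!
# Formulas for the Verschiebung in terms of a dual basis

Let `a = ∑ f_i(a) e_i` for all `a : A` (a dual basis of the finite projective module `A`).
* `verschiebung_apply`: `V(a) = ∑ e_i ⊗ (f_i^p)(a)`;
* `powConv_prime_apply`: `[p](a) = ∑ (f_i^p)(a) e_i^p`.
-/

open TensorProduct

namespace K875.VBase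

section basis

variable (R : Type u) [CommRing R] (A : Type v) [CommRing A] [HopfAlgebra R A]

/-- Dual bases. -/
def IsDB {ι : Type*} [Fintype ι] (e : ι → A) (f : ι → CartDual.D R A) : Prop :=
  ∀ a : A, ∑ i, f i a • e i = a

theorem exists_isDB [Module.Finite R A] [Module.Projective R A] :
    ∃ (n : ℕ) (e : Fin n → A) (f : Fin n → CartDual.D R A), IsDB R A e f := by
  obtain ⟨n, F, G, -, -, hFG⟩ := Module.Finite.exists_comp_eq_id_of_projective R A
  refine ⟨n, fun i => F (Pi.single i 1), fun i => WithConv.toConv (LinearMap.proj i ∘ₗ G), fun a => ?_⟩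
  have h1 : G a = ∑ i, G a i • (Pi.single i 1 : Fin n → R) := by
    funext j
    simp [Finset.sum_apply, Pi.single_apply]
  have h2 : F (G a) = a := LinearMap.congr_fun hFG a
  conv_rhs => rw [← h2, h1, map_sum]
  refine Finset.sum_congr rfl fun i _ => ?_
  rw [map_smul]
  rfl

variable {R A}

theorem IsDB.dual {ι : Type*} [Fintype ι] {e : ι → A} {f : ι → CartDual.D R A} (h : IsDB R A e f)
    (x : CartDual.D R A) : x = ∑ i, x (e i) • f i := by
  apply WithConv.ext
  refine LinearMap.ext fun a => ?_
  conv_lhs => rw [← h a, map_sum]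
  rw [WithConv.ofConv_sum, LinearMap.sum_apply]
  refine Finset.sum_congr rfl fun i _ => ?_
  rw [map_smul, WithConv.ofConv_smul, LinearMap.smul_apply, smul_eq_mul, smul_eq_mul, mul_comm]

end basis

section conv

variable (R : Type u) [CommRing R] (A : Type v) [CommRing A] [HopfAlgebra R A]

theorem algebraMap_injective : Function.Injective (algebraMap R A) := by
  intro r s h
  have h1 := congrArg (Coalgebra.counit (R := R) (A := A)) h
  rwa [Bialgebra.counit_algebraMap, Bialgebra.counit_algebraMap] at h1

theorem algebraMap_conv_injective : Function.Injective (algebraMap R (WithConv (A →ₗ[R] A))) := by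
  intro r s h
  have h1 := congrArg (fun x : WithConv (A →ₗ[R] A) => x 1) h
  simp only [LinearMap.convAlgebraMap_apply, Bialgebra.counit_one, map_one] at h1
  apply algebraMap_injective R A
  rw [Algebra.algebraMap_eq_smul_one, Algebra.algebraMap_eq_smul_one]
  exact h1

/-- The linear map `a ↦ x(a) b`, in the convolution ring. -/
noncomputable def E (b : A) (x : CartDual.D R A) : WithConv (A →ₗ[R] A) :=
  WithConv.toConv (x.ofConv.smulRight b)

variable {R A}

theorem E_apply (b : A) (x : CartDual.D R A) (a : A) : E R A b x a = x a • b := rfl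

theorem E_mul (b c : A) (x y : CartDual.D R A) : E R A b x * E R A c y = E R A (b * c) (x * y) := by
  apply WithConv.ext
  refine LinearMap.ext fun a => ?_
  change (E R A b x * E R A c y) a = (x * y) a • (b * c)
  rw [LinearMap.convMul_apply, LinearMap.convMul_apply]
  generalize Coalgebra.comul (R := R) a = t
  induction t using TensorProduct.induction_on with
  | zero => simp
  | tmul a a' =>
    change (x a • b) * (y a' • c) = (x a * y a') • (b * c)
    rw [smul_mul_smul_comm]
  | add t t' h h' => simp only [map_add, h, h', add_smul]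

theorem E_one : E R A 1 1 = 1 := by
  apply WithConv.ext
  refine LinearMap.ext fun a => ?_
  change (1 : CartDual.D R A) a • (1 : A) = algebraMap R A (Coalgebra.counit (R := R) a)
  rw [Algebra.algebraMap_eq_smul_one]
  rfl

theorem E_pow (b : A) (x : CartDual.D R A) (n : ℕ) : E R A b x ^ n = E R A (b ^ n) (x ^ n) := by
  induction n with
  | zero => rw [pow_zero, pow_zero, pow_zero, E_one]
  | succ n ih => rw [pow_succ, ih, E_mul, ← pow_succ, ← pow_succ]

theorem IsDB.id_eq {ι : Type*} [Fintype ι] {e : ι → A} {f : ι → CartDual.D R A} (h : IsDB R A e f) :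
    WithConv.toConv (LinearMap.id : A →ₗ[R] A) = ∑ i, E R A (e i) (f i) := by
  apply WithConv.ext
  refine LinearMap.ext fun a => ?_
  rw [WithConv.ofConv_sum, LinearMap.sum_apply]
  exact (h a).symm

variable (p : ℕ) [Fact p.Prime] [CharP R p] [Coalgebra.IsCocomm R A]

theorem powConv_prime_apply {A : Type u} [CommRing A] [HopfAlgebra R A] [Coalgebra.IsCocomm R A]
    {ι : Type*} [Fintype ι] {e : ι → A} {f : ι → CartDual.D R A}
    (h : IsDB R A e f) (a : A) : SGA3b.powConv R A p a = ∑ i, (f i ^ p) a • e i ^ p := by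
  have : CharP (WithConv (A →ₗ[R] A)) p :=
    charP_of_injective_algebraMap (algebraMap_conv_injective R A) p
  have h1 := AlgHom.toLinearMap_convPow (WithConv.toConv (AlgHom.id R A)) p
  have h2 : WithConv.toConv (WithConv.toConv (AlgHom.id R A)).ofConv.toLinearMap =
      WithConv.toConv (LinearMap.id : A →ₗ[R] A) := rfl
  rw [h2, h.id_eq, sum_pow_char] at h1
  have h3 := congrArg (fun x : WithConv (A →ₗ[R] A) => x.ofConv a) h1
  simp only [WithConv.ofConv_sum, LinearMap.sum_apply] at h3
  refine Eq.trans ?_ (h3.trans ?_)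
  · rfl
  · refine Finset.sum_congr rfl fun i _ => ?_
    rw [E_pow]
    rfl

variable [Module.Finite R A] [Module.Projective R A]

theorem verschiebung_apply {v : A →+* FrobAlg.BaseChange p R A} (hv : Versch.IsVerschiebung p R A v)
    {ι : Type*} [Fintype ι] {e : ι → A} {f : ι → CartDual.D R A} (h : IsDB R A e f) (a : A) :
    v a = ∑ i, e i ⊗ₜ[R] FrobAlg.toTwist p R ((f i ^ p) a) := by
  apply Versch.evTw_injective p R A
  intro x
  rw [(Versch.isVerschiebung_iff p R A v).mp hv a x, map_sum]
  have h1 : x ^ p = ∑ i, (x (e i)) ^ p • f i ^ p := by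
    conv_lhs => rw [h.dual x, sum_pow_char]
    refine Finset.sum_congr rfl fun i _ => ?_
    rw [smul_pow]
  rw [h1, CartDual.coe_apply, WithConv.ofConv_sum, LinearMap.sum_apply, map_sum]
  refine Finset.sum_congr rfl fun i _ => ?_
  rw [Versch.evTw_tmul', ← map_mul]
  rfl

end conv

end K875.VBase
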