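import Mathlib.RingTheory.Etale.Field
import Mathlib.FieldTheory.PurelyInseparable.PerfectClosure
import Mathlib.RingTheory.Unramified.Basic
import Mathlib.RingTheory.Kaehler.Basic

set_option autoImplicit false
universe u v

/-!
# Finite étale algebras over a field of characteristic `p` and spans of `p`-th powers
-/

namespace K875.EtaleSpan

theorem span_pow_eq_top_of_etale (p : ℕ) [Fact p.Prime] (k : Type u) [Field k] [CharP k p]
    (D : Type v) [CommRing D] [Algebra k D] (h : Algebra.Etale k D) :
    Submodule.span k (Set.range fun x : D => x ^ p) = ⊤ := by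
  classical
  obtain ⟨I, _, Ai, _, _, e, H⟩ := (Algebra.Etale.iff_exists_algEquiv_prod k D).mp h
  let _ : Fintype I := Fintype.ofFinite I
  rw [eq_top_iff]
  intro x _
  have h1 : ∀ (i : I) (z : Ai i), e.symm (Pi.single i z) ∈
      Submodule.span k (Set.range fun x : D => x ^ p) := by
    intro i z
    have := (H i).2
    have hExp : ExpChar k p := ExpChar.prime (Fact.out : p.Prime)
    have htop := Field.span_map_pow_expChar_pow_eq_top_of_isSeparable (F := k) (E := Ai i) p 1
      (v := (id : Ai i → Ai i)) (by rw [Set.range_id, Submodule.span_univ])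
    have hz : z ∈ Submodule.span k (Set.range ((id : Ai i → Ai i) · ^ p ^ 1)) := by
      rw [htop]; exact Submodule.mem_top
    induction hz using Submodule.span_induction with
    | mem y hy =>
      obtain ⟨w, rfl⟩ := hy
      refine Submodule.subset_span ⟨e.symm (Pi.single i w), ?_⟩
      change (e.symm (Pi.single i w)) ^ p = _
      have h3 : (Pi.single i w : ∀ i, Ai i) ^ p = Pi.single i (w ^ p) := by
        funext j
        rw [Pi.pow_apply]
        by_cases hj : j = i
        · subst hj; rw [Pi.single_eq_same, Pi.single_eq_same]
        · rw [Pi.single_eq_of_ne hj, Pi.single_eq_of_ne hj, zero_pow (Fact.out : p.Prime).ne_zero]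
      rw [← map_pow, h3, pow_one]
      rfl
    | zero => rw [Pi.single_zero, map_zero]; exact Submodule.zero_mem _
    | add y z _ _ hy hz => rw [Pi.single_add, map_add]; exact Submodule.add_mem _ hy hz
    | smul c y _ hy => rw [Pi.single_smul, map_smul]; exact Submodule.smul_mem _ _ hy
  have h2 : x = ∑ i, e.symm (Pi.single i (e x i)) := by
    rw [← map_sum, Finset.univ_sum_single, e.symm_apply_apply]
  rw [h2]
  exact Submodule.sum_mem _ fun i _ => h1 i _

theorem formallyUnramified_of_span (p : ℕ) (k : Type u) [CommRing k]
    (D : Type v) [CommRing D] [Algebra k D] (hp : (p : D) = 0)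
    (h : Submodule.span k (Set.range fun x : D => x ^ p) = ⊤) : Algebra.FormallyUnramified k D := by
  rw [Algebra.formallyUnramified_iff]
  have h1 : ∀ x : D, KaehlerDifferential.D k D x = 0 := by
    intro x
    have hx : x ∈ Submodule.span k (Set.range fun x : D => x ^ p) := by rw [h]; exact Submodule.mem_top
    induction hx using Submodule.span_induction with
    | mem y hy =>
      obtain ⟨w, rfl⟩ := hy
      rw [Derivation.leibniz_pow, ← Nat.cast_smul_eq_nsmul D, hp, zero_smul]
    | zero => rw [map_zero]
    | add y z _ _ hy hz => rw [map_add, hy, hz, add_zero]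
    | smul c y _ hy => rw [Derivation.map_smul, hy, smul_zero]
  have h2 : (⊤ : Submodule D (Ω[D⁄k])) = ⊥ := by
    rw [← KaehlerDifferential.span_range_derivation, Submodule.span_eq_bot]
    rintro _ ⟨x, rfl⟩
    exact h1 x
  exact (Submodule.subsingleton_iff D).mp (subsingleton_of_bot_eq_top h2.symm)

theorem etale_iff_span (p : ℕ) [Fact p.Prime] (k : Type u) [Field k] [CharP k p]
    (D : Type v) [CommRing D] [Algebra k D] [Module.Finite k D] (hp : (p : D) = 0) :
    Algebra.Etale k D ↔ Submodule.span k (Set.range fun x : D => x ^ p) = ⊤ := by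
  refine ⟨span_pow_eq_top_of_etale p k D, fun h => ?_⟩
  have h1 := formallyUnramified_of_span p k D hp h
  have h2 := Algebra.FormallyEtale.of_formallyUnramified_of_field k D
  exact ⟨h2, Algebra.FinitePresentation.of_finiteType.mp inferInstance⟩

end K875.EtaleSpan
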