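import Groth.Agent.Versch.K875.VBase
import Mathlib.RingTheory.Coalgebra.GroupLike

set_option autoImplicit false
universe u v

/-!
# Dual bases from bases; convolution powers at group-like elements
-/

open TensorProduct

namespace K875.VBasis

variable {R : Type u} [CommRing R] {A : Type v} [CommRing A] [HopfAlgebra R A]

theorem isDB_basis {ι : Type*} [Fintype ι] (B : Module.Basis ι R A) :
    VBase.IsDB R A B (fun i => WithConv.toConv (B.coord i)) := by
  intro a
  exact B.sum_repr a

theorem conv_mul_groupLike {a : A} (ha : IsGroupLikeElem R a) (x y : CartDual.D R A) :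
    (x * y) a = x a * y a := by
  rw [LinearMap.convMul_apply, ha.comul_eq_tmul_self]
  rfl

theorem conv_pow_groupLike {a : A} (ha : IsGroupLikeElem R a) (x : CartDual.D R A) (n : ℕ) :
    (x ^ n) a = x a ^ n := by
  induction n with
  | zero =>
    rw [pow_zero, pow_zero, LinearMap.convOne_apply, ha.counit_eq_one, map_one]
  | succ n ih => rw [pow_succ, conv_mul_groupLike ha, ih, pow_succ]

end K875.VBasis
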