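import Groth.Prelude.Def_SGA3b
import Groth.Agent.Sga3A.PowConv
import Mathlib.RingTheory.Bialgebra.Convolution

set_option autoImplicit false
universe u v

/-!
# Composition of the power endomorphisms
-/

namespace K875.PowComp

open WithConv

variable (R : Type u) [CommRing R] (A : Type u) [CommRing A] [HopfAlgebra R A]

theorem powConv_one : SGA3b.powConv R A 1 = AlgHom.id R A := by
  rw [SGA3b.powConv, pow_one, WithConv.ofConv_toConv]

theorem toConv_powConv (n : ℕ) : toConv (SGA3b.powConv R A n) = toConv (AlgHom.id R A) ^ n := rfl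

theorem powConv_comp (m n : ℕ) :
    (SGA3b.powConv R A m).comp (SGA3b.powConv R A n) = SGA3b.powConv R A (m * n) := by
  induction n with
  | zero =>
    rw [mul_zero, Groth.Agent.Sga3A.PowConv.powConv_zero]
    refine AlgHom.ext fun a => ?_
    exact (SGA3b.powConv R A m).commutes _
  | succ n ih =>
    have h1 : SGA3b.powConv R A (n + 1) = (toConv (SGA3b.powConv R A n) * toConv (AlgHom.id R A)).ofConv := by
      rw [toConv_powConv, ← pow_succ]
      rfl
    rw [h1, AlgHom.comp_convMul_distrib, ofConv_toConv, ofConv_toConv, ih, AlgHom.comp_id, toConv_powConv,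
      toConv_powConv, ← pow_add, mul_add, mul_one]
    rfl

theorem powConv_comp_apply (m n : ℕ) (a : A) :
    SGA3b.powConv R A m (SGA3b.powConv R A n a) = SGA3b.powConv R A (m * n) a :=
  AlgHom.congr_fun (powConv_comp R A m n) a

end K875.PowComp
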